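import Mathlib
import Groth.Prelude.Def_SGA1

/-!
# Quotients of schemes by groups: checking on a basis
-/

set_option autoImplicit false
universe u

open CategoryTheory AlgebraicGeometry TopologicalSpace Opposite

namespace Groth.Agent.ProjInvariants

variable {X Y : Scheme.{u}}

lemma appLE_eq_of_eq {f g : X ⟶ Y} (h : f = g) (U : Y.Opens) (V : X.Opens) (e : V ≤ f ⁻¹ᵁ U)
    (e' : V ≤ g ⁻¹ᵁ U) : f.appLE U V e = g.appLE U V e' := by
  subst h
  rfl

/-- An element in the image of `p` is invariant. -/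
lemma appLE_app_of_inv {G : Type u} [Group G] (ρ : G →* Aut X) (p : X ⟶ Y)
    (hinv : ∀ g : G, (ρ g).hom ≫ p = p) (g : G) (U : Y.Opens) :
    p.app U ≫ (ρ g).hom.appLE (p ⁻¹ᵁ U) (p ⁻¹ᵁ U) (SGA1.preimage_le_of_inv ρ p hinv g U) = p.app U := by
  rw [Scheme.Hom.app_eq_appLE, Scheme.Hom.appLE_comp_appLE]
  exact appLE_eq_of_eq (hinv g) _ _ _ _

/-- Being a quotient can be checked on a basis of the target. -/
theorem isQuot_of_isBasis {G : Type u} [Group G] (ρ : G →* Aut X) (p : X ⟶ Y) [IsAffineHom p]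
    (hinv : ∀ g : G, (ρ g).hom ≫ p = p) {ι : Type u} (B : ι → Y.Opens)
    (hB : Opens.IsBasis (Set.range B))
    (hinj : ∀ i, Function.Injective (p.app (B i)).hom)
    (hrange : ∀ (i : ι) (s : Γ(X, p ⁻¹ᵁ B i)),
      (∀ g : G, ((ρ g).hom.appLE (p ⁻¹ᵁ B i) (p ⁻¹ᵁ B i)
        (SGA1.preimage_le_of_inv ρ p hinv g (B i))).hom s = s) → s ∈ Set.range (p.app (B i)).hom) :
    SGA1.IsQuot ρ p := by
  have hnat : ∀ {U V : Y.Opens} (h : V ≤ U) (t : Γ(Y, U)),
      (p.app V).hom (Y.presheaf.map (homOfLE h).op t) =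
        X.presheaf.map (homOfLE (p.preimage_mono h)).op ((p.app U).hom t) := fun {U V} h t =>
    ConcreteCategory.congr_hom (p.naturality (homOfLE h).op) t
  have hcov : ∀ U : Y.Opens, U ≤ ⨆ i : {i // B i ≤ U}, B i.1 := fun U x hx => by
    obtain ⟨_, ⟨i, rfl⟩, hxi, hi⟩ := (Opens.isBasis_iff_nbhd.mp hB) hx
    exact Opens.mem_iSup.mpr ⟨⟨i, hi⟩, hxi⟩
  have hinjU : ∀ U : Y.Opens, Function.Injective (p.app U).hom := by
    intro U s t hst
    refine TopCat.Sheaf.eq_of_locally_eq' Y.sheaf (fun i : {i // B i ≤ U} => B i.1) U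
      (fun i => homOfLE i.2) (hcov U) s t fun i => hinj i.1 ?_
    exact ((hnat i.2 s).trans (congrArg _ hst)).trans (hnat i.2 t).symm
  refine ⟨inferInstance, hinv, hinjU, fun U s => ⟨?_, fun hs => ?_⟩⟩
  · rintro ⟨t, rfl⟩ g
    exact ConcreteCategory.congr_hom (appLE_app_of_inv ρ p hinv g U) t
  · have hloc : ∀ i : {i // B i ≤ U}, ∃ t : Γ(Y, B i.1),
        (p.app (B i.1)).hom t = X.presheaf.map (homOfLE (p.preimage_mono i.2)).op s := fun i =>
      hrange i.1 _ fun g => by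
        have h1 := ConcreteCategory.congr_hom (Scheme.Hom.map_appLE (ρ g).hom
          (SGA1.preimage_le_of_inv ρ p hinv g (B i.1)) (homOfLE (p.preimage_mono i.2)).op) s
        have h2 := ConcreteCategory.congr_hom (Scheme.Hom.appLE_map (ρ g).hom
          (SGA1.preimage_le_of_inv ρ p hinv g U) (homOfLE (p.preimage_mono i.2)).op) s
        exact h1.trans (h2.symm.trans (congrArg (X.presheaf.map (homOfLE (p.preimage_mono i.2)).op) (hs g)))
    choose t ht using hloc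
    have hcompat : TopCat.Presheaf.IsCompatible Y.presheaf (fun i : {i // B i ≤ U} => B i.1) t := by
      intro i j
      apply hinjU
      refine ((hnat inf_le_left (t i)).trans ?_).trans (hnat inf_le_right (t j)).symm
      rw [ht, ht, ← ConcreteCategory.comp_apply, ← ConcreteCategory.comp_apply,
        ← X.presheaf.map_comp, ← X.presheaf.map_comp]
      congr 1
    obtain ⟨t₀, ht₀, -⟩ := TopCat.Sheaf.existsUnique_gluing' Y.sheaf (fun i : {i // B i ≤ U} => B i.1)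
      U (fun i => homOfLE i.2) (hcov U) t hcompat
    refine ⟨t₀, TopCat.Sheaf.eq_of_locally_eq' X.sheaf (fun i : {i // B i ≤ U} => p ⁻¹ᵁ B i.1)
      (p ⁻¹ᵁ U) (fun i => homOfLE (p.preimage_mono i.2)) ?_ _ _ fun i => ?_⟩
    · intro x hx
      obtain ⟨i, hi⟩ := Opens.mem_iSup.mp (hcov U hx)
      exact Opens.mem_iSup.mpr ⟨i, hi⟩
    · exact ((hnat i.2 t₀).symm.trans (congrArg (p.app (B i.1)).hom (ht₀ i))).trans (ht i)

section Chart

variable {A B : CommRingCat.{u}}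

/-- The sections over the range of a chart. -/
noncomputable def chartMap (a : Spec A ⟶ X) (V : X.Opens) (h : ⊤ ≤ a ⁻¹ᵁ V) : Γ(X, V) ⟶ A :=
  a.appLE V ⊤ h ≫ (Scheme.ΓSpecIso A).hom

lemma bijective_chartMap (a : Spec A ⟶ X) [IsOpenImmersion a] {V : X.Opens} (hV : a.opensRange = V)
    (h : ⊤ ≤ a ⁻¹ᵁ V) : Function.Bijective (chartMap a V h).hom := by
  have := a.isIso_app V hV.ge
  have hpre : a ⁻¹ᵁ V = ⊤ := top_le_iff.mp h
  have : IsIso (a.appLE V ⊤ h) := by
    rw [Scheme.Hom.appLE, show (homOfLE h) = eqToHom hpre.symm from Subsingleton.elim _ _]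
    infer_instance
  have : IsIso (chartMap a V h) := by unfold chartMap; infer_instance
  exact ConcreteCategory.bijective_of_isIso (chartMap a V h)

lemma appLE_chartMap (a : Spec A ⟶ X) (b : Spec B ⟶ Y) (f : X ⟶ Y) (θ : B ⟶ A)
    (e : a ≫ f = Spec.map θ ≫ b) {V : X.Opens} {U : Y.Opens} (hV : ⊤ ≤ a ⁻¹ᵁ V)
    (hU : ⊤ ≤ b ⁻¹ᵁ U) (hVU : V ≤ f ⁻¹ᵁ U) :
    f.appLE U V hVU ≫ chartMap a V hV = chartMap b U hU ≫ θ := by
  rw [chartMap, chartMap, Scheme.Hom.appLE_comp_appLE_assoc, appLE_eq_of_eq e U ⊤ _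
    (le_trans le_top ((Spec.map θ).preimage_mono hU)), Category.assoc,
    ← Scheme.ΓSpecIso_naturality θ]
  refine Eq.trans ?_ (Category.assoc _ _ _)
  refine congrArg (· ≫ (Scheme.ΓSpecIso A).hom) ?_
  rw [Scheme.Hom.appTop, Scheme.Hom.app_eq_appLE]
  exact (Scheme.Hom.appLE_comp_appLE (Spec.map θ) b U ⊤ ⊤ hU le_rfl).symm

end Chart

end Groth.Agent.ProjInvariants
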