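import Mathlib
import Groth.Prelude.Def_SGA1
import Groth.Agent.ProjInvariants.Quot

/-!
# The Proj of a ring of invariants
-/

set_option autoImplicit false
universe u

open CategoryTheory AlgebraicGeometry TopologicalSpace HomogeneousLocalization Graded

namespace Groth.Agent.ProjInvariants

variable {R A : Type u} [CommRing R] [CommRing A] [Algebra R A] {𝒜 : ℕ → Submodule R A}
  [GradedAlgebra 𝒜] {G : Type u} [Group G] [Finite G] [MulSemiringAction G A]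
  (hGdeg : ∀ (σ : G) (i : ℕ) (a : A), a ∈ 𝒜 i → σ • a ∈ 𝒜 i)

omit [Finite G] [Group G] [MulSemiringAction G A] in
lemma multiset_prod_mem {m : ℕ} (t : Multiset A) (ht : ∀ b ∈ t, b ∈ 𝒜 m) :
    t.prod ∈ 𝒜 (Multiset.card t * m) := by
  induction t using Multiset.induction with
  | empty => simpa using SetLike.one_mem_graded 𝒜
  | cons b t ih =>
    rw [Multiset.prod_cons, Multiset.card_cons, add_mul, one_mul, add_comm]
    exact SetLike.mul_mem_graded (ht b (Multiset.mem_cons_self b t))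
      (ih fun c hc => ht c (Multiset.mem_cons_of_mem hc))

/-- A group element as a graded ring map. -/
def gradedSmul (σ : G) : 𝒜 →+*ᵍ 𝒜 :=
  ⟨MulSemiringAction.toRingHom G A σ, fun {i a} h => hGdeg σ i a h⟩

include hGdeg in
/-- Every point misses some invariant homogeneous element of positive degree. -/
lemma exists_invariant_notMem (x : Proj 𝒜) :
    ∃ (n : ℕ) (b : A), 0 < n ∧ b ∈ 𝒜 n ∧ (∀ σ : G, σ • b = b) ∧ x ∈ Proj.basicOpen 𝒜 b := by
  classical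
  have := Fintype.ofFinite G
  obtain ⟨m, hm, a, ha, hax⟩ : ∃ (m : ℕ) (_ : 0 < m) (a : A), a ∈ 𝒜 m ∧ x ∈ Proj.basicOpen 𝒜 a := by
    by_contra! H
    refine x.not_irrelevant_le ((HomogeneousIdeal.toIdeal_irrelevant_le _).mpr fun m hm a ha => ?_)
    by_contra h
    exact H m hm a ha h
  by_contra! H
  let P : Ideal A := x.asHomogeneousIdeal.toIdeal
  have hP : P.IsPrime := x.isPrime
  let s : Multiset A := (Finset.univ.val : Multiset G).map fun σ => σ • a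
  have hs : Multiset.card s = Fintype.card G := by simp [s]
  have hpoly : MulSemiringAction.charpoly G a = (s.map fun t => Polynomial.X - Polynomial.C t).prod := by
    rw [MulSemiringAction.charpoly_eq, Multiset.map_map, Finset.prod_eq_multiset_prod]
    rfl
  have hdeg : ∀ k, s.esymm k ∈ 𝒜 (k * m) := by
    intro k
    refine multiset_sum_mem _ fun b hb => ?_
    obtain ⟨t, ht, rfl⟩ := Multiset.mem_map.mp hb
    obtain ⟨hts, htk⟩ := Multiset.mem_powersetCard.mp ht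
    have := multiset_prod_mem (𝒜 := 𝒜) (m := m) t fun b hb => by
      obtain ⟨σ, -, rfl⟩ := Multiset.mem_map.mp (Multiset.subset_of_le hts hb)
      exact hGdeg σ m a ha
    rwa [htk] at this
  have hcoeff : ∀ k < Fintype.card G, (MulSemiringAction.charpoly G a).coeff k ∈ P := by
    intro k hk
    by_contra h
    refine H ((Fintype.card G - k) * m) ((MulSemiringAction.charpoly G a).coeff k)
      (Nat.mul_pos (Nat.sub_pos_of_lt hk) hm) ?_ (fun σ => MulSemiringAction.smul_coeff_charpoly a k σ) h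
    rw [hpoly, Multiset.prod_X_sub_C_coeff s (by omega), hs]
    rcases neg_one_pow_eq_or A (Fintype.card G - k) with h1 | h1 <;> rw [h1]
    · rw [one_mul]; exact hdeg _
    · rw [neg_one_mul]; exact neg_mem (hdeg _)
  have hnat : (MulSemiringAction.charpoly G a).natDegree ≤ Fintype.card G := by
    rw [hpoly, ← hs]
    exact le_of_eq ((@Polynomial.natDegree_multiset_prod_X_sub_C_eq_card A _ (nontrivial_of_ne a 0 fun h => hax (by rw [h]; exact P.zero_mem)) s))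
  have h0 : (MulSemiringAction.charpoly G a).eval a ∈ P := by
    rw [MulSemiringAction.eval_charpoly]
    exact P.zero_mem
  rw [Polynomial.eval_eq_sum_range' (Nat.lt_succ_of_le hnat), Finset.sum_range_succ] at h0
  have htop : (MulSemiringAction.charpoly G a).coeff (Fintype.card G) = 1 := by
    rw [hpoly, Multiset.prod_X_sub_C_coeff s hs.ge, hs, Nat.sub_self]
    simp [Multiset.esymm]
  rw [htop, one_mul] at h0
  have hsum : ∑ k ∈ Finset.range (Fintype.card G), (MulSemiringAction.charpoly G a).coeff k * a ^ k ∈ P :=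
    P.sum_mem fun k hk => P.mul_mem_right _ (hcoeff k (Finset.mem_range.mp hk))
  exact hax (hP.mem_of_pow_mem _ ((P.add_mem_iff_right hsum).mp h0))

variable {C : Type u} [CommRing C] [Algebra R C] {𝒞 : ℕ → Submodule R C} [GradedAlgebra 𝒞]
  {ι : C →ₐ[R] A}
  (hιdeg : ∀ (i : ℕ) (a : A), a ∈ (𝒞 i).map ι.toLinearMap ↔ (a ∈ 𝒜 i ∧ ∀ σ : G, σ • a = a))

/-- The inclusion of the invariants as a graded ring map. -/
def gradedIncl : 𝒞 →+*ᵍ 𝒜 :=
  ⟨ι.toRingHom, fun {i c} h => ((hιdeg i (ι c)).mp (Submodule.mem_map_of_mem h)).1⟩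

include hιdeg in
lemma smul_incl {n : ℕ} {c : C} (hc : c ∈ 𝒞 n) (σ : G) : σ • ι c = ι c :=
  ((hιdeg n (ι c)).mp (Submodule.mem_map_of_mem hc)).2 σ

omit [Finite G] in
/-- The comparison square of a map of homogeneous localisations. -/
lemma algebraMap_comp_map {B : Type u} [CommRing B] [Algebra R B] {ℬ : ℕ → Submodule R B}
    [GradedAlgebra ℬ] (g : ℬ →+*ᵍ 𝒜) {n : ℕ} {b : B} (hb : b ∈ ℬ n) :
    (algebraMap (Away 𝒜 (g b)) (Localization.Away (g b))).comp (Away.map g b) =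
      (Localization.awayMap g.toRingHom b).comp (algebraMap (Away ℬ b) (Localization.Away b)) := by
  refine RingHom.ext fun x => ?_
  obtain ⟨k, a, ha, rfl⟩ := Away.mk_surjective ℬ hb x
  rw [RingHom.comp_apply, RingHom.comp_apply, Away.map_mk]
  change (Away.mk 𝒜 (map_mem g hb) k (g a) (map_mem g ha)).val =
    Localization.awayMap g.toRingHom b (Away.mk ℬ hb k a ha).val
  rw [Away.val_mk, Away.val_mk, Localization.mk_eq_mk', Localization.mk_eq_mk', Localization.awayMap,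
    IsLocalization.Away.map, IsLocalization.map_mk']
  congr 1
  exact Subtype.ext (map_pow g.toRingHom b k).symm

variable (ρ : G →* Aut (Proj 𝒜))
  (hρ : ∀ (σ : G) (n : ℕ) (f : A) (hn : 0 < n) (hf : f ∈ 𝒜 n)
      (θ : CommRingCat.of (Away 𝒜 f) ⟶ CommRingCat.of (Away 𝒜 (σ • f))),
      (algebraMap (Away 𝒜 (σ • f)) (Localization.Away (σ • f))).comp θ.hom =
        (Localization.awayMap (MulSemiringAction.toRingHom G A σ) f).comp
          (algebraMap (Away 𝒜 f) (Localization.Away f)) →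
      Proj.awayι 𝒜 (σ • f) (hGdeg σ n f hf) hn ≫ (ρ σ).inv = Spec.map θ ≫ Proj.awayι 𝒜 f hf hn)

include hρ in
/-- The action on the chart of an invariant element. -/
lemma exists_chart_action (σ : G) {n : ℕ} {f : A} (hn : 0 < n) (hf : f ∈ 𝒜 n) (hfix : σ • f = f) :
    ∃ θ : CommRingCat.of (Away 𝒜 f) ⟶ CommRingCat.of (Away 𝒜 f),
      Proj.awayι 𝒜 f hf hn ≫ (ρ σ).inv = Spec.map θ ≫ Proj.awayι 𝒜 f hf hn ∧
      ∀ (k : ℕ) (a : A) (ha : a ∈ 𝒜 (k • n)),
        θ.hom (Away.mk 𝒜 hf k a ha) = Away.mk 𝒜 hf k (σ • a) (hGdeg σ _ a ha) := by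
  have key : ∀ (f' : A) (hf' : f' ∈ 𝒜 n)
      (θ : CommRingCat.of (Away 𝒜 f) ⟶ CommRingCat.of (Away 𝒜 f')),
      Proj.awayι 𝒜 f' hf' hn ≫ (ρ σ).inv = Spec.map θ ≫ Proj.awayι 𝒜 f hf hn →
      (∀ (k : ℕ) (a : A) (ha : a ∈ 𝒜 (k • n)),
        θ.hom (Away.mk 𝒜 hf k a ha) = Away.mk 𝒜 hf' k (σ • a) (hGdeg σ _ a ha)) → f' = f →
      ∃ θ : CommRingCat.of (Away 𝒜 f) ⟶ CommRingCat.of (Away 𝒜 f),
        Proj.awayι 𝒜 f hf hn ≫ (ρ σ).inv = Spec.map θ ≫ Proj.awayι 𝒜 f hf hn ∧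
        ∀ (k : ℕ) (a : A) (ha : a ∈ 𝒜 (k • n)),
          θ.hom (Away.mk 𝒜 hf k a ha) = Away.mk 𝒜 hf k (σ • a) (hGdeg σ _ a ha) := by
    intro f' hf' θ h₁ h₂ he
    subst he
    exact ⟨θ, h₁, h₂⟩
  exact key (σ • f) (hGdeg σ n f hf) (CommRingCat.ofHom (Away.map (gradedSmul hGdeg σ) f))
    (hρ σ n f hn hf _ (algebraMap_comp_map (gradedSmul hGdeg σ) hf))
    (fun k a ha => Away.map_mk (gradedSmul hGdeg σ) f hf k a ha) hfix

omit [Finite G] in
lemma injective_map_incl (hι : Function.Injective ι) {n : ℕ} {c : C} (hc : c ∈ 𝒞 n) :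
    Function.Injective (Away.map (gradedIncl hιdeg) c) := by
  rw [injective_iff_map_eq_zero]
  intro x hx
  obtain ⟨k, a, ha, rfl⟩ := Away.mk_surjective 𝒞 hc x
  rw [Away.map_mk] at hx
  have h := congrArg HomogeneousLocalization.val hx
  rw [Away.val_mk, HomogeneousLocalization.val_zero, Localization.mk_eq_mk',
    IsLocalization.mk'_eq_zero_iff] at h
  obtain ⟨⟨_, e, rfl⟩, he⟩ := h
  apply HomogeneousLocalization.val_injective
  rw [Away.val_mk, HomogeneousLocalization.val_zero, Localization.mk_eq_mk',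
    IsLocalization.mk'_eq_zero_iff]
  refine ⟨⟨c ^ e, e, rfl⟩, hι ?_⟩
  change gradedIncl hιdeg c ^ e * gradedIncl hιdeg a = 0 at he
  simpa [gradedIncl] using he

include hιdeg in
/-- The invariants of a chart. -/
lemma exists_map_eq_of_invariant {n : ℕ} {c : C} (hc : c ∈ 𝒞 n)
    (x : Away 𝒜 (gradedIncl hιdeg c))
    (hx : ∀ (σ : G) (k : ℕ) (a : A) (ha : a ∈ 𝒜 (k • n)),
      Away.mk 𝒜 (map_mem (gradedIncl hιdeg) hc) k a ha = x →
        Away.mk 𝒜 (map_mem (gradedIncl hιdeg) hc) k (σ • a) (hGdeg σ _ a ha) = x) :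
    ∃ y, Away.map (gradedIncl hιdeg) c y = x := by
  classical
  have := Fintype.ofFinite G
  obtain ⟨k, a, ha, rfl⟩ := Away.mk_surjective 𝒜 (map_mem (gradedIncl hιdeg) hc) x
  have hσ : ∀ σ : G, ∃ e : ℕ, ι c ^ e * (σ • a) = ι c ^ e * a := by
    intro σ
    have h := congrArg HomogeneousLocalization.val (hx σ k a ha rfl)
    rw [Away.val_mk, Away.val_mk, Localization.mk_eq_mk_iff, Localization.r_iff_exists] at h
    obtain ⟨⟨_, e, rfl⟩, he⟩ := h
    refine ⟨e + k, ?_⟩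
    change ι c ^ e * (ι c ^ k * (σ • a)) = ι c ^ e * (ι c ^ k * a) at he
    rw [pow_add, mul_assoc, he, mul_assoc]
  choose e he using hσ
  have hinv : ∀ σ : G, σ • (ι c ^ Finset.univ.sup e * a) = ι c ^ Finset.univ.sup e * a := by
    intro σ
    obtain ⟨d, hd⟩ := Nat.exists_eq_add_of_le (Finset.le_sup (f := e) (Finset.mem_univ σ))
    rw [smul_mul', smul_pow', smul_incl hιdeg hc σ, hd, add_comm, pow_add, mul_assoc, he σ, mul_assoc]
  have hmem : ι c ^ Finset.univ.sup e * a ∈ 𝒜 ((Finset.univ.sup e + k) • n) := by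
    rw [add_smul]
    exact SetLike.mul_mem_graded (SetLike.pow_mem_graded _ (map_mem (gradedIncl hιdeg) hc)) ha
  obtain ⟨a', ha', hea⟩ := (hιdeg _ _).mpr ⟨hmem, hinv⟩
  refine ⟨Away.mk 𝒞 hc (Finset.univ.sup e + k) a' ha', ?_⟩
  rw [Away.map_mk]
  apply HomogeneousLocalization.val_injective
  rw [Away.val_mk, Away.val_mk, Localization.mk_eq_mk_iff, Localization.r_iff_exists]
  refine ⟨1, ?_⟩
  change ι a' = ι c ^ Finset.univ.sup e * a at hea
  change (1 : A) * (ι c ^ k * ι a') = 1 * (ι c ^ (Finset.univ.sup e + k) * a)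
  rw [hea, pow_add]
  ring

variable (π : Proj 𝒜 ⟶ Proj 𝒞)
  (hπ : ∀ (n : ℕ) (c : C) (hn : 0 < n) (hc : c ∈ 𝒞 n)
      (θ : CommRingCat.of (Away 𝒞 c) ⟶ CommRingCat.of (Away 𝒜 (ι c))),
      (algebraMap (Away 𝒜 (ι c)) (Localization.Away (ι c))).comp θ.hom =
        (Localization.awayMap ι.toRingHom c).comp (algebraMap (Away 𝒞 c) (Localization.Away c)) →
      Proj.awayι 𝒜 (ι c) ((hιdeg n (ι c)).mp (Submodule.mem_map_of_mem hc)).1 hn ≫ π =
        Spec.map θ ≫ Proj.awayι 𝒞 c hc hn)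

include hπ in
omit [Finite G] in
lemma awayι_comp {n : ℕ} {c : C} (hn : 0 < n) (hc : c ∈ 𝒞 n) :
    Proj.awayι 𝒜 (gradedIncl hιdeg c) (map_mem (gradedIncl hιdeg) hc) hn ≫ π =
      Spec.map (CommRingCat.ofHom (Away.map (gradedIncl hιdeg) c)) ≫ Proj.awayι 𝒞 c hc hn :=
  hπ n c hn hc (CommRingCat.ofHom (Away.map (gradedIncl hιdeg) c))
    (algebraMap_comp_map (gradedIncl hιdeg) hc)

include hGdeg hπ in
/-- The preimage of a basic open is a basic open. -/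
lemma preimage_basicOpen {n : ℕ} {c : C} (hn : 0 < n) (hc : c ∈ 𝒞 n) :
    π ⁻¹ᵁ Proj.basicOpen 𝒞 c = Proj.basicOpen 𝒜 (gradedIncl hιdeg c) := by
  ext x
  obtain ⟨m, b, hm, hb, hinv, hxb⟩ := exists_invariant_notMem hGdeg x
  obtain ⟨d, hd, rfl⟩ := (hιdeg m b).mpr ⟨hb, hinv⟩
  obtain ⟨z, rfl⟩ : x ∈ Set.range (Proj.awayι 𝒜 (gradedIncl hιdeg d) (map_mem (gradedIncl hιdeg) hd) hm) := by
    have := Proj.opensRange_awayι 𝒜 (gradedIncl hιdeg d) (map_mem (gradedIncl hιdeg) hd) hm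
    exact (SetLike.ext_iff.mp this x).mpr hxb
  change z ∈ Proj.awayι 𝒜 (gradedIncl hιdeg d) (map_mem (gradedIncl hιdeg) hd) hm ⁻¹ᵁ
      (π ⁻¹ᵁ Proj.basicOpen 𝒞 c) ↔
    z ∈ Proj.awayι 𝒜 (gradedIncl hιdeg d) (map_mem (gradedIncl hιdeg) hd) hm ⁻¹ᵁ
      Proj.basicOpen 𝒜 (gradedIncl hιdeg c)
  rw [← Scheme.Hom.comp_preimage, awayι_comp hιdeg π hπ hm hd, Scheme.Hom.comp_preimage,
    Proj.awayι_preimage_basicOpen 𝒞 hd hm hc hn,
    Proj.awayι_preimage_basicOpen 𝒜 (map_mem (gradedIncl hιdeg) hd) hm (map_mem (gradedIncl hιdeg) hc) hn]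
  change Away.map (gradedIncl hιdeg) d (Away.isLocalizationElem hd hc) ∉ z.asIdeal ↔
    Away.isLocalizationElem (map_mem (gradedIncl hιdeg) hd) (map_mem (gradedIncl hιdeg) hc) ∉ z.asIdeal
  simp [Away.isLocalizationElem]

include hGdeg hπ in
lemma isAffineHom : IsAffineHom π := by
  refine isAffineHom_of_forall_exists_isAffineOpen π fun y => ?_
  obtain ⟨m, hm, d, hd, hyd⟩ : ∃ (m : ℕ) (_ : 0 < m) (d : C), d ∈ 𝒞 m ∧ y ∈ Proj.basicOpen 𝒞 d := by
    by_contra! H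
    refine y.not_irrelevant_le ((HomogeneousIdeal.toIdeal_irrelevant_le _).mpr fun m hm d hd => ?_)
    by_contra h
    exact H m hm d hd h
  refine ⟨_, hyd, Proj.isAffineOpen_basicOpen 𝒞 d hd hm, ?_⟩
  rw [preimage_basicOpen hGdeg hιdeg π hπ hm hd]
  exact Proj.isAffineOpen_basicOpen 𝒜 _ (map_mem (gradedIncl hιdeg) hd) hm

include hρ hπ in
lemma inv_comp (g : G) : (ρ g).hom ≫ π = π := by
  have h : ∀ σ : G, (ρ σ).inv ≫ π = π := by
    intro σ
    let J := {p : ℕ × C // 0 < p.1 ∧ p.2 ∈ 𝒞 p.1}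
    have hcov : ⨆ p : J, Proj.basicOpen 𝒜 (gradedIncl hιdeg p.1.2) = ⊤ := by
      refine top_le_iff.mp fun x _ => ?_
      obtain ⟨m, b, hm, hb, hinv, hxb⟩ := exists_invariant_notMem hGdeg x
      obtain ⟨d, hd, rfl⟩ := (hιdeg m b).mpr ⟨hb, hinv⟩
      exact Opens.mem_iSup.mpr ⟨⟨(m, d), hm, hd⟩, hxb⟩
    refine (Scheme.openCoverOfIsOpenCover _ _ hcov).hom_ext _ _ fun p => ?_
    have hdeg := map_mem (gradedIncl hιdeg) p.2.2
    refine (cancel_epi (Proj.basicOpenIsoSpec 𝒜 (gradedIncl hιdeg p.1.2) hdeg p.2.1).inv).mp ?_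
    change _ ≫ (Proj.basicOpen 𝒜 _).ι ≫ _ = _ ≫ (Proj.basicOpen 𝒜 _).ι ≫ _
    rw [Proj.basicOpenIsoSpec_inv_ι_assoc, Proj.basicOpenIsoSpec_inv_ι_assoc]
    obtain ⟨θ, hθ, hθmk⟩ := exists_chart_action hGdeg ρ hρ σ p.2.1 hdeg (smul_incl hιdeg p.2.2 σ)
    rw [reassoc_of% hθ, awayι_comp hιdeg π hπ p.2.1 p.2.2, ← Spec.map_comp_assoc]
    congr 2
    refine CommRingCat.hom_ext (RingHom.ext fun x => ?_)
    obtain ⟨k, a, ha, rfl⟩ := Away.mk_surjective 𝒞 p.2.2 x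
    change θ.hom (Away.map (gradedIncl hιdeg) p.1.2 (Away.mk 𝒞 p.2.2 k a ha)) =
      Away.map (gradedIncl hιdeg) p.1.2 (Away.mk 𝒞 p.2.2 k a ha)
    rw [Away.map_mk, hθmk]
    congr 1
    exact smul_incl hιdeg ha σ
  conv_lhs => rw [← h g]
  exact Iso.hom_inv_id_assoc _ _

include hρ hπ in
/-- `Proj` of the invariants is the quotient. -/
theorem isQuot (hι : Function.Injective ι) : SGA1.IsQuot ρ π := by
  have := isAffineHom hGdeg hιdeg π hπ
  let J := {p : ℕ × C // 0 < p.1 ∧ p.2 ∈ 𝒞 p.1}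
  refine isQuot_of_isBasis ρ π (inv_comp hGdeg hιdeg ρ hρ π hπ) (fun p : J => Proj.basicOpen 𝒞 p.1.2) ?_ ?_ ?_
  · rw [Opens.isBasis_iff_nbhd]
    intro U x hx
    obtain ⟨_, ⟨c, rfl⟩, hxc, hcU⟩ := (Opens.isBasis_iff_nbhd.mp (Proj.isBasis_basicOpen 𝒞)) hx
    classical
    obtain ⟨i, hi⟩ : ∃ i, x ∈ Proj.basicOpen 𝒞 (DirectSum.decompose 𝒞 c i : C) := by
      rw [Proj.basicOpen_eq_iSup_proj] at hxc
      exact Opens.mem_iSup.mp hxc
    have hle : Proj.basicOpen 𝒞 (DirectSum.decompose 𝒞 c i : C) ≤ U := by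
      refine le_trans ?_ hcU
      rw [Proj.basicOpen_eq_iSup_proj 𝒞 c]
      exact le_iSup (fun j => Proj.basicOpen 𝒞 (GradedRing.proj 𝒞 j c)) i
    obtain ⟨m, hm, d, hd, hxd⟩ : ∃ (m : ℕ) (_ : 0 < m) (d : C), d ∈ 𝒞 m ∧ x ∈ Proj.basicOpen 𝒞 d := by
      by_contra! H
      refine x.not_irrelevant_le ((HomogeneousIdeal.toIdeal_irrelevant_le _).mpr fun m hm d hd => ?_)
      by_contra h
      exact H m hm d hd h
    refine ⟨_, ⟨⟨(i + m, DirectSum.decompose 𝒞 c i * d),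
      Nat.lt_add_left i hm, SetLike.mul_mem_graded (SetLike.coe_mem _) hd⟩, rfl⟩, ?_, ?_⟩
    · change x ∈ Proj.basicOpen 𝒞 ((DirectSum.decompose 𝒞 c i : C) * d)
      rw [Proj.basicOpen_mul]
      exact ⟨hi, hxd⟩
    · exact le_trans (Proj.basicOpen_mono 𝒞 _ _ (dvd_mul_right _ _)) hle
  all_goals rintro ⟨⟨n, c⟩, hn, hc⟩
  all_goals
    have hdeg := map_mem (gradedIncl hιdeg) hc
    let a := Proj.awayι 𝒜 (gradedIncl hιdeg c) hdeg hn
    let b := Proj.awayι 𝒞 c hc hn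
    have hV : a.opensRange = π ⁻¹ᵁ Proj.basicOpen 𝒞 c := by
      rw [preimage_basicOpen hGdeg hιdeg π hπ hn hc]
      exact Proj.opensRange_awayι 𝒜 _ hdeg hn
    have hV' : ⊤ ≤ a ⁻¹ᵁ (π ⁻¹ᵁ Proj.basicOpen 𝒞 c) := fun z _ => hV.le ⟨z, rfl⟩
    have hU' : ⊤ ≤ b ⁻¹ᵁ Proj.basicOpen 𝒞 c := fun z _ =>
      (Proj.opensRange_awayι 𝒞 c hc hn).le ⟨z, rfl⟩
    have hJb := bijective_chartMap b (Proj.opensRange_awayι 𝒞 c hc hn) hU'
    have hJa := bijective_chartMap a hV hV'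
    have hsq := appLE_chartMap a b π _ (awayι_comp hιdeg π hπ hn hc) hV' hU' le_rfl
  · intro s t hst
    apply hJb.1
    apply injective_map_incl hιdeg hι hc
    have h := fun x => ConcreteCategory.congr_hom hsq x
    rw [← Scheme.Hom.app_eq_appLE] at hsq
    refine ((h s).symm.trans ?_).trans (h t)
    rw [← Scheme.Hom.app_eq_appLE]
    exact congrArg (chartMap a _ hV').hom hst
  · intro s hs
    obtain ⟨y, hy⟩ := exists_map_eq_of_invariant hGdeg hιdeg hc ((chartMap a _ hV').hom s) (by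
      intro σ k x hx hxs
      obtain ⟨θ, hθ, hθmk⟩ := exists_chart_action hGdeg ρ hρ σ hn hdeg (smul_incl hιdeg hc σ)
      rw [← hθmk k x hx, hxs]
      have hle : π ⁻¹ᵁ Proj.basicOpen 𝒞 c ≤ (ρ σ⁻¹).hom ⁻¹ᵁ (π ⁻¹ᵁ Proj.basicOpen 𝒞 c) :=
        SGA1.preimage_le_of_inv ρ π (inv_comp hGdeg hιdeg ρ hρ π hπ) σ⁻¹ _
      have hinv : (ρ σ⁻¹).hom = (ρ σ).inv := by rw [map_inv]; rfl
      have h2 := ConcreteCategory.congr_hom (appLE_chartMap a a (ρ σ⁻¹).hom θ (hinv ▸ hθ) hV' hV' hle) s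
      exact h2.symm.trans (congrArg (chartMap a _ hV').hom (hs σ⁻¹)))
    obtain ⟨t, rfl⟩ := hJb.2 y
    refine ⟨t, hJa.1 ?_⟩
    rw [← hy, Scheme.Hom.app_eq_appLE]
    exact ConcreteCategory.congr_hom hsq t

end Groth.Agent.ProjInvariants
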